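import Groth.Agent.S7652
import Groth.Agent.CohenLib.Normalization
import Mathlib.RingTheory.Unramified.Field
import Mathlib.RingTheory.DiscreteValuationRing.TFAE
import Mathlib.RingTheory.LocalRing.Length
import Mathlib.LinearAlgebra.TensorProduct.RightExactness

/-!
# Base change of the normalisation of a one-dimensional local ring along an unramified flat map
-/

set_option autoImplicit false

universe u

open scoped TensorProduct nonZeroDivisors
open IsLocalRing

noncomputable section

namespace DeltaBCLib

/-- A separable algebraic extension is geometrically reduced. -/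
theorem isReduced_tensor_separable (k K L : Type u) [Field k] [Field K] [Field L] [Algebra k K] [Algebra k L]
    [Algebra.IsSeparable k L] : IsReduced (K ⊗[k] L) := by
  refine IsReduced.tensorProduct_of_flat_of_forall_fg fun D hD => ?_
  obtain ⟨s, rfl⟩ := hD
  haveI : Algebra.IsAlgebraic k L := Algebra.IsSeparable.isAlgebraic k L
  have heq : (IntermediateField.adjoin k (s : Set L)).toSubalgebra = Algebra.adjoin k (s : Set L) :=
    IntermediateField.adjoin_toSubalgebra_of_isAlgebraic
      (fun x _ => Algebra.IsAlgebraic.isAlgebraic x)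
  rw [← heq]
  haveI : FiniteDimensional k (IntermediateField.adjoin k (s : Set L)) :=
    IntermediateField.finiteDimensional_adjoin fun x _ => Algebra.IsIntegral.isIntegral x
  haveI : Algebra.FormallyUnramified k (IntermediateField.adjoin k (s : Set L)) :=
    Algebra.FormallyUnramified.of_isSeparable _ _
  exact Algebra.FormallyUnramified.isReduced_of_field K (K ⊗[k] (IntermediateField.adjoin k (s : Set L)))

theorem exists_killing {F R : Type u} [Field F] [CommRing R] [Algebra F R] [Algebra.IsIntegral F R] [IsReduced R]
    {P : Ideal R} [P.IsPrime] {x : R} (hx : x ∈ P) : ∃ s, s ∉ P ∧ s * x = 0 := by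
  open Polynomial in
  obtain ⟨p, hp, hpx⟩ := Algebra.IsIntegral.isIntegral (R := F) x
  obtain ⟨q, hq, hq0⟩ := exists_eq_pow_rootMultiplicity_mul_and_not_dvd p hp.ne_zero 0
  set m := p.rootMultiplicity 0
  rw [map_zero, sub_zero, X_dvd_iff] at hq0
  rw [← aeval_def, hq, map_zero, sub_zero, map_mul, map_pow, aeval_X] at hpx
  refine ⟨aeval x q, fun h => ?_, ?_⟩
  · obtain ⟨r, hr⟩ : X ∣ q - C (q.coeff 0) := X_dvd_iff.2 (by simp)
    have h1 : algebraMap F R (q.coeff 0) ∈ P := by
      have h2 := congrArg (aeval x) hr
      rw [map_sub, aeval_C, map_mul, aeval_X] at h2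
      rw [show algebraMap F R (q.coeff 0) = aeval x q - x * aeval x r by rw [← h2]; ring]
      exact P.sub_mem h (P.mul_mem_right _ hx)
    exact (inferInstance : P.IsPrime).ne_top
      (Ideal.eq_top_of_isUnit_mem _ h1 ((isUnit_iff_ne_zero.2 hq0).map _))
  · refine IsReduced.eq_zero _ ⟨m + 1, ?_⟩
    rw [mul_pow, pow_succ x, pow_succ (aeval x q), ← mul_assoc, mul_assoc _ (aeval x q) (x ^ m), mul_comm (aeval x q) (x ^ m),
      hpx, mul_zero, zero_mul]

theorem normal_of_principal (R : Type u) [CommRing R] [IsLocalRing R] [IsNoetherianRing R] (π : R)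
    (h : maximalIdeal R = Ideal.span {π}) (hπ : π = 0 ∨ IsLeftRegular π) : IsDomain R ∧ IsIntegrallyClosed R := by
  rcases hπ with rfl | hπ
  · have hf : IsField R := IsLocalRing.isField_iff_maximalIdeal_eq.2 (h.trans (by simp))
    letI := hf.toField
    exact ⟨inferInstance, inferInstance⟩
  have hπm : π ∈ maximalIdeal R := h.symm ▸ Ideal.mem_span_singleton_self π
  have hfac : ∀ x : R, x ≠ 0 → ∃ (n : ℕ) (u : R), IsUnit u ∧ x = π ^ n * u := by
    intro x hx
    by_contra hcon
    apply hx
    have hall : ∀ n, ∃ y, x = π ^ n * y := by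
      intro n
      induction n with
      | zero => exact ⟨x, by rw [pow_zero, one_mul]⟩
      | succ n ih =>
        obtain ⟨y, hy⟩ := ih
        have hyu : ¬ IsUnit y := fun hu => hcon ⟨n, y, hu, hy⟩
        have : y ∈ maximalIdeal R := (IsLocalRing.mem_maximalIdeal _).2 hyu
        rw [h, Ideal.mem_span_singleton] at this
        obtain ⟨z, hz⟩ := this
        exact ⟨z, by rw [hy, hz, pow_succ, mul_assoc]⟩
    have hmem : x ∈ ⨅ n : ℕ, maximalIdeal R ^ n := by
      simp only [Submodule.mem_iInf]
      intro n
      obtain ⟨y, hy⟩ := hall n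
      exact hy ▸ Ideal.mul_mem_right _ _ (Ideal.pow_mem_pow hπm n)
    rw [Ideal.iInf_pow_eq_bot_of_isLocalRing _ (IsLocalRing.maximalIdeal.isMaximal R).ne_top] at hmem
    exact hmem
  haveI : NoZeroDivisors R := ⟨fun {x y} hxy => by
    by_contra hne
    simp only [not_or] at hne
    obtain ⟨n, u, hu, rfl⟩ := hfac x hne.1
    obtain ⟨m, v, hv, rfl⟩ := hfac y hne.2
    have h1 : π ^ (n + m) * (u * v) = 0 := by rw [← hxy, pow_add]; ring
    have h2 : π ^ (n + m) * (0 : R) = 0 := mul_zero _
    have h3 := (hπ.pow (n + m)) (h1.trans h2.symm)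
    exact (hu.mul hv).ne_zero h3⟩
  haveI : IsDomain R := NoZeroDivisors.to_isDomain R
  have hnf : ¬ IsField R := fun hf => by
    have h0 : π = 0 := by
      have := IsLocalRing.isField_iff_maximalIdeal_eq.1 hf
      rw [this] at hπm
      exact hπm
    exact one_ne_zero (hπ (show π * 1 = π * 0 by simp [h0]))
  have h04 : IsDiscreteValuationRing R ↔ (maximalIdeal R).IsPrincipal :=
    (IsDiscreteValuationRing.TFAE R hnf).out 0 4
  haveI : IsDiscreteValuationRing R := h04.2 ⟨π, by rw [h, Ideal.submodule_span_eq]⟩
  exact ⟨inferInstance, inferInstance⟩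

section main

variable {A : Type u} [CommRing A] [IsLocalRing A] {B : Type u} [CommRing B] [IsLocalRing B] [Algebra A B]
  [IsLocalHom (algebraMap A B)] [Module.Flat A B]

theorem mem_map_includeLeft {A' : Type u} [CommRing A'] [Algebra A A'] (P' : Ideal A')
    (hP : (maximalIdeal A).map (algebraMap A A') ≤ P') {b : B} (hb : b ∈ (maximalIdeal A).map (algebraMap A B)) :
    (Algebra.TensorProduct.includeLeft : B →ₐ[A] B ⊗[A] A') b ∈
      P'.map (Algebra.TensorProduct.includeRight : A' →ₐ[A] B ⊗[A] A') := by
  have hle : ((maximalIdeal A).map (algebraMap A B)).map (Algebra.TensorProduct.includeLeft : B →ₐ[A] B ⊗[A] A') ≤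
      P'.map (Algebra.TensorProduct.includeRight : A' →ₐ[A] B ⊗[A] A') := by
    rw [Ideal.map_le_iff_le_comap, Ideal.map_le_iff_le_comap]
    intro a ha
    simp only [Ideal.mem_comap, AlgHom.commutes]
    rw [← (Algebra.TensorProduct.includeRight : A' →ₐ[A] B ⊗[A] A').commutes]
    exact Ideal.mem_map_of_mem _ (hP (Ideal.mem_map_of_mem _ ha))
  exact hle (Ideal.mem_map_of_mem _ hb)

theorem normal_at {A' : Type u} [CommRing A'] [Algebra A A'] [Module.Finite A A'] [IsNoetherianRing A]
    [IsNoetherianRing B] (hdim : ringKrullDim A ≤ 1)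
    (hnorm : ∀ p : PrimeSpectrum A', IsDomain (Localization.AtPrime p.asIdeal) ∧
      IsIntegrallyClosed (Localization.AtPrime p.asIdeal))
    (hm : (maximalIdeal A).map (algebraMap A B) = maximalIdeal B)
    [Algebra.IsSeparable (ResidueField A) (ResidueField B)]
    (P : Ideal (B ⊗[A] A')) [hPmax : P.IsMaximal] :
    IsDomain (Localization.AtPrime P) ∧ IsIntegrallyClosed (Localization.AtPrime P) := by
  set C := B ⊗[A] A'
  haveI : IsNoetherianRing A' := isNoetherianRing_iff.2 (isNoetherian_of_tower A inferInstance)
  haveI : IsNoetherianRing C := isNoetherianRing_iff.2 (isNoetherian_of_tower B inferInstance)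
  let ι : A' →ₐ[A] C := Algebra.TensorProduct.includeRight
  let P' : Ideal A' := P.comap ι
  haveI : P'.IsPrime := Ideal.comap_isPrime _ _
  have hPB : P.comap (algebraMap B C) = maximalIdeal B :=
    IsLocalRing.eq_maximalIdeal (Ideal.isMaximal_comap_of_isIntegral_of_isMaximal P)
  have hPA : P'.comap (algebraMap A A') = maximalIdeal A := by
    show (P.comap ι.toRingHom).comap (algebraMap A A') = _
    rw [Ideal.comap_comap, AlgHom.toRingHom_eq_coe, ι.comp_algebraMap, IsScalarTower.algebraMap_eq A B C, ← Ideal.comap_comap, hPB,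
      IsLocalRing.maximalIdeal_comap]
  haveI hP'max : P'.IsMaximal :=
    Ideal.isMaximal_of_isIntegral_of_isMaximal_comap P' (hPA ▸ IsLocalRing.maximalIdeal.isMaximal A)
  have hmP : (maximalIdeal A).map (algebraMap A A') ≤ P' := Ideal.map_le_iff_le_comap.2 hPA.ge
  -- the localisation of the normal ring
  obtain ⟨hD, hI⟩ := hnorm ⟨P', inferInstance⟩
  haveI : IsDomain (Localization.AtPrime P') := hD
  haveI : IsIntegrallyClosed (Localization.AtPrime P') := hI
  haveI : IsNoetherianRing (Localization.AtPrime P') := IsLocalization.isNoetherianRing P'.primeCompl _ inferInstance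
  haveI : Ring.KrullDimLE 1 A' := by
    rw [Ring.krullDimLE_iff]
    exact (CohenLib.ringKrullDim_le_of_isIntegral A A').trans (by exact_mod_cast hdim)
  haveI : Ring.DimensionLEOne (Localization.AtPrime P') := ⟨fun {Q} hQ hQp => by
    haveI := hQp
    have h1 := (IsLocalization.isPrime_iff_isPrime_disjoint P'.primeCompl (Localization.AtPrime P') Q).1 hQp
    have hle : Q.comap (algebraMap A' (Localization.AtPrime P')) ≤ P' := fun x hx => by
      by_contra hxP
      exact Set.disjoint_left.1 h1.2 hxP hx
    rcases (Ring.krullDimLE_one_iff.1 ‹_› _ h1.1) with hmin | hmax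
    · exfalso
      apply hQ
      have h0 : ((⊥ : Ideal (Localization.AtPrime P')).comap (algebraMap A' (Localization.AtPrime P'))).IsPrime :=
        Ideal.comap_isPrime _ _
      have h2 := hmin.2 ⟨h0, bot_le⟩ (Ideal.comap_mono bot_le)
      have h3 : Q.comap (algebraMap A' (Localization.AtPrime P')) =
          (⊥ : Ideal (Localization.AtPrime P')).comap (algebraMap A' (Localization.AtPrime P')) :=
        le_antisymm h2 (Ideal.comap_mono bot_le)
      have h4 := congrArg (Ideal.map (algebraMap A' (Localization.AtPrime P'))) h3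
      exact (IsLocalization.map_under P'.primeCompl _ Q).symm.trans
        (h4.trans (IsLocalization.map_under P'.primeCompl _ ⊥))
    · have h5 := hmax.eq_of_le hP'max.ne_top hle
      have h6 : Q = maximalIdeal (Localization.AtPrime P') :=
        (IsLocalization.map_under P'.primeCompl _ Q).symm.trans
          ((congrArg (Ideal.map (algebraMap A' (Localization.AtPrime P'))) h5).trans
            Localization.AtPrime.map_eq_maximalIdeal)
      rw [h6]; exact IsLocalRing.maximalIdeal.isMaximal _⟩
  haveI : IsDedekindDomain (Localization.AtPrime P') := {}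
  obtain ⟨g, hg⟩ := (IsPrincipalIdealRing.principal (maximalIdeal (Localization.AtPrime P'))).principal
  obtain ⟨⟨a, t⟩, hat⟩ := IsLocalization.surj P'.primeCompl g
  have ha : maximalIdeal (Localization.AtPrime P') = Ideal.span {algebraMap A' (Localization.AtPrime P') a} := by
    rw [← hat, Ideal.span_singleton_mul_right_unit (IsLocalization.map_units (Localization.AtPrime P') t)]
    exact hg
  have haP : a ∈ P' := by
    rw [← IsLocalization.AtPrime.under_maximalIdeal (Localization.AtPrime P') P', Ideal.under_def, Ideal.mem_comap, ha]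
    exact Ideal.mem_span_singleton_self _
  -- the maximal ideal upstairs
  let R := Localization.AtPrime P
  haveI : IsNoetherianRing R := IsLocalization.isNoetherianRing P.primeCompl _ inferInstance
  let f : A' →+* R := (algebraMap C R).comp ι.toRingHom
  have hfP : ∀ t : P'.primeCompl, IsUnit (f t) := fun t =>
    IsLocalization.map_units (M := P.primeCompl) R (⟨ι t, t.2⟩ : P.primeCompl)
  have hmaxR : maximalIdeal R = Ideal.span {f a} := by
    refine le_antisymm ?_ ((Ideal.span_singleton_le_iff_mem _).2 ?_)
    · rw [← Localization.AtPrime.map_eq_maximalIdeal, Ideal.map_le_iff_le_comap]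
      intro x hx
      haveI : IsReduced (ResidueField B ⊗[A] (A' ⧸ P')) := by
        letI : Field (A' ⧸ P') := Ideal.Quotient.field P'
        letI : Algebra (ResidueField A) (A' ⧸ P') :=
          (Ideal.Quotient.lift (maximalIdeal A) (algebraMap A (A' ⧸ P')) fun z hz =>
            Ideal.Quotient.eq_zero_iff_mem.2 (hmP (Ideal.mem_map_of_mem _ hz))).toAlgebra
        haveI : IsScalarTower A (ResidueField A) (A' ⧸ P') := IsScalarTower.of_algebraMap_eq fun _ => rfl
        have hsur : Function.Surjective (algebraMap A (ResidueField A)) := IsLocalRing.residue_surjective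
        haveI := TensorProduct.CompatibleSMul.of_algebraMap_surjective (ResidueField B) (A' ⧸ P') hsur
        haveI := isReduced_tensor_separable (ResidueField A) (A' ⧸ P') (ResidueField B)
        haveI : IsReduced (ResidueField B ⊗[ResidueField A] (A' ⧸ P')) :=
          isReduced_of_injective _ (Algebra.TensorProduct.comm (ResidueField A) (ResidueField B) (A' ⧸ P')).injective
        exact isReduced_of_injective _
          (Algebra.TensorProduct.equivOfCompatibleSMul A (ResidueField A) A (ResidueField B) (A' ⧸ P')).symm.injective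
      let φ := Algebra.TensorProduct.map (IsScalarTower.toAlgHom A B (ResidueField B)) (Ideal.Quotient.mkₐ A P')
      have hφs : Function.Surjective φ :=
        Algebra.TensorProduct.map_surjective _ _ IsLocalRing.residue_surjective Ideal.Quotient.mk_surjective
      have hker : RingHom.ker φ ≤ P'.map ι := by
        rw [Algebra.TensorProduct.map_ker (f := IsScalarTower.toAlgHom A B (ResidueField B))
          (g := Ideal.Quotient.mkₐ A P') IsLocalRing.residue_surjective Ideal.Quotient.mk_surjective]
        refine sup_le (Ideal.map_le_iff_le_comap.2 fun b hb => ?_) (le_of_eq ?_)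
        · refine mem_map_includeLeft P' hmP ?_
          rw [hm]
          exact IsLocalRing.residue_eq_zero_iff b |>.1 hb
        · rw [show RingHom.ker (Ideal.Quotient.mkₐ A P') = P' from Ideal.mk_ker]
      haveI : (P.map φ).IsPrime := Ideal.map_isPrime_of_surjective hφs
        (hker.trans (Ideal.map_le_iff_le_comap.2 le_rfl))
      obtain ⟨s, hs, hsx⟩ := exists_killing (F := ResidueField B) (P := P.map φ) (Ideal.mem_map_of_mem φ hx)
      obtain ⟨s, rfl⟩ := hφs s
      have hmem : s * x ∈ P'.map ι := hker (by rw [RingHom.mem_ker, map_mul, hsx])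
      have hsP : s ∈ P.primeCompl := fun h => hs (Ideal.mem_map_of_mem φ h)
      have hgen : (P'.map ι).map (algebraMap C R) ≤ Ideal.span {f a} := by
        rw [Ideal.map_le_iff_le_comap, Ideal.map_le_iff_le_comap]
        intro z hz
        simp only [Ideal.mem_comap]
        show f z ∈ _
        have hz' : algebraMap A' (Localization.AtPrime P') z ∈ maximalIdeal (Localization.AtPrime P') :=
          Localization.AtPrime.map_eq_maximalIdeal (I := P') ▸ Ideal.mem_map_of_mem _ hz
        rw [ha] at hz'
        obtain ⟨w, hw⟩ := Ideal.mem_span_singleton.1 hz'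
        have hl := congrArg (IsLocalization.lift hfP) hw
        rw [map_mul, IsLocalization.lift_eq, IsLocalization.lift_eq] at hl
        exact hl ▸ Ideal.mul_mem_right _ _ (Ideal.mem_span_singleton_self _)
      have h7 := hgen (Ideal.mem_map_of_mem (algebraMap C R) hmem)
      rw [map_mul] at h7
      exact (Ideal.unit_mul_mem_iff_mem _ (IsLocalization.map_units (M := P.primeCompl) R (⟨s, hsP⟩ : P.primeCompl))).1 h7
    · rw [← Localization.AtPrime.map_eq_maximalIdeal]
      exact Ideal.mem_map_of_mem _ haP
  refine normal_of_principal R (f a) hmaxR ?_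
  by_cases ha0 : algebraMap A' (Localization.AtPrime P') a = 0
  · left
    have hl := congrArg (IsLocalization.lift hfP) ha0
    rwa [IsLocalization.lift_eq, map_zero] at hl
  right
  -- the annihilator of `a` dies after localisation
  let K := LinearMap.ker (LinearMap.mulLeft A' a)
  obtain ⟨t, htK⟩ : ∃ t : P'.primeCompl, ∀ z, a * z = 0 → (t : A') * z = 0 := by
    obtain ⟨S, hS⟩ := IsNoetherian.noetherian K
    have hloc : ∀ z ∈ K, ∃ t : P'.primeCompl, (t : A') * z = 0 := fun z hz => by
      refine (IsLocalization.map_eq_zero_iff P'.primeCompl (Localization.AtPrime P') z).1 ?_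
      have h1 : algebraMap A' (Localization.AtPrime P') a * algebraMap A' (Localization.AtPrime P') z = 0 := by
        rw [← map_mul, show a * z = 0 from LinearMap.mem_ker.1 hz, map_zero]
      exact (mul_eq_zero.1 h1).resolve_left ha0
    choose τ hτ using hloc
    refine ⟨∏ z ∈ S.attach, τ z.1 (hS ▸ Submodule.subset_span z.2), fun z hz => ?_⟩
    have hzK : z ∈ K := LinearMap.mem_ker.2 hz
    rw [← hS] at hzK
    induction hzK using Submodule.span_induction with
    | mem z hzS =>
      rw [Submonoid.coe_finset_prod]
      obtain ⟨c, hc⟩ := Finset.dvd_prod_of_mem (fun z : S => ((τ z.1 (hS ▸ Submodule.subset_span z.2)) : A'))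
        (Finset.mem_attach S ⟨z, hzS⟩)
      rw [hc, mul_comm _ c, mul_assoc, hτ, mul_zero]
    | zero => rw [mul_zero]
    | add x y hx hy ihx ihy =>
      rw [mul_add, ihx (LinearMap.mem_ker.1 (hS ▸ hx)), ihy (LinearMap.mem_ker.1 (hS ▸ hy)), add_zero]
    | smul c x hx ihx => rw [smul_eq_mul, mul_left_comm, ihx (LinearMap.mem_ker.1 (hS ▸ hx)), mul_zero]
  have hexact : ∀ x : C, ι a * x = 0 → ι (t : A') * x = 0 := by
    let μ : A' →ₗ[A] A' := LinearMap.mulLeft A a
    have hex : Function.Exact (LinearMap.ker μ).subtype μ := LinearMap.exact_subtype_ker_map μ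
    have hex' := Module.Flat.lTensor_exact B hex
    have hμ : ∀ (c : A') (x : C), ι c * x = (LinearMap.mulLeft A c).lTensor B x := fun c x => by
      induction x using TensorProduct.induction_on with
      | zero => simp
      | tmul b z =>
        show (1 : B) ⊗ₜ[A] c * b ⊗ₜ[A] z = _
        rw [Algebra.TensorProduct.tmul_mul_tmul, one_mul]
        rfl
      | add x y hx hy => rw [mul_add, map_add, hx, hy]
    intro x hx
    rw [hμ] at hx
    obtain ⟨y, rfl⟩ := (hex' x).1 hx
    induction y using TensorProduct.induction_on with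
    | zero => simp
    | tmul b z =>
      rw [LinearMap.lTensor_tmul]
      show (1 : B) ⊗ₜ[A] (t : A') * b ⊗ₜ[A] (z : A') = 0
      rw [Algebra.TensorProduct.tmul_mul_tmul, one_mul, htK z.1 (LinearMap.mem_ker.1 z.2), TensorProduct.tmul_zero]
    | add x y hx' hy' =>
      rw [map_add, mul_add, hx' ((hex' _).2 ⟨x, rfl⟩), hy' ((hex' _).2 ⟨y, rfl⟩), add_zero]
  intro x y hxy
  rw [← sub_eq_zero]
  have hz : f a * (x - y) = 0 := by rw [mul_sub, sub_eq_zero]; exact hxy
  obtain ⟨⟨c, s⟩, hcs⟩ := IsLocalization.surj P.primeCompl (x - y)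
  have h1 : algebraMap C R (ι a * c) = 0 := by
    rw [map_mul, ← hcs, ← mul_assoc]
    change f a * (x - y) * _ = 0
    rw [hz, zero_mul]
  obtain ⟨u, hu⟩ := (IsLocalization.map_eq_zero_iff P.primeCompl R _).1 h1
  have h2 : ι (t : A') * (↑u * c) = 0 := hexact _ (by rw [mul_left_comm]; exact hu)
  have h3 : algebraMap C R c = 0 := by
    have h4 := congrArg (algebraMap C R) h2
    rw [map_mul, map_mul, map_zero] at h4
    have hu1 : IsUnit (algebraMap C R (ι (t : A'))) := hfP t
    have hu2 : IsUnit (algebraMap C R (u : C)) := IsLocalization.map_units R u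
    exact hu2.mul_right_eq_zero.1 (hu1.mul_right_eq_zero.1 h4)
  have hs : IsUnit (algebraMap C R (s : C)) := IsLocalization.map_units R s
  exact hs.mul_left_eq_zero.1 (hcs.trans h3)

/-- In a ring all of whose local rings at maximal ideals are normal domains, regular denominators of integral
fractions divide. -/
theorem dvd_of_integral {C : Type u} [CommRing C]
    (hC : ∀ (P : Ideal C) [P.IsMaximal], IsDomain (Localization.AtPrime P) ∧ IsIntegrallyClosed (Localization.AtPrime P))
    {y t : C} (ht : IsLeftRegular t) {p : Polynomial C} (hp : p.Monic)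
    (h : ∀ (R : Type u) [CommRing R] [Algebra C R] (q : R), q * algebraMap C R t = algebraMap C R y →
      IsUnit (algebraMap C R t) → Polynomial.aeval q p = 0) : t ∣ y := by
  let J : Ideal C := (Ideal.span {t}).colon {y}
  suffices hJ : J = ⊤ by
    have h1 : (1 : C) ∈ J := hJ ▸ Submodule.mem_top
    rw [Submodule.mem_colon_singleton, one_smul, Ideal.mem_span_singleton] at h1
    exact h1
  by_contra hJ
  obtain ⟨P, hP, hJP⟩ := Ideal.exists_le_maximal J hJ
  obtain ⟨hD, hI⟩ := hC P
  set R := Localization.AtPrime P
  haveI : IsDomain R := hD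
  haveI : IsIntegrallyClosed R := hI
  have ht0 : algebraMap C R t ≠ 0 := fun h0 => by
    obtain ⟨u, hu⟩ := (IsLocalization.map_eq_zero_iff P.primeCompl R t).1 h0
    have : (u : C) = 0 := ht (show t * u = t * 0 by rw [mul_zero, mul_comm]; exact hu)
    exact u.2 (by rw [this]; exact P.zero_mem)
  let Kf := FractionRing R
  set q : Kf := algebraMap C Kf y / algebraMap C Kf t with hq
  have ht1 : algebraMap C Kf t ≠ 0 := by
    rw [IsScalarTower.algebraMap_apply C R Kf]
    exact (map_ne_zero_iff _ (IsFractionRing.injective R Kf)).2 ht0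
  have haev : Polynomial.aeval q p = 0 := h Kf q (div_mul_cancel₀ _ ht1) (Ne.isUnit ht1)
  have hint : IsIntegral R q := IsIntegral.tower_top (R := C) ⟨p, hp, haev⟩
  obtain ⟨r, hr⟩ := IsIntegrallyClosed.isIntegral_iff.1 hint
  have h2 : r * algebraMap C R t = algebraMap C R y := by
    apply IsFractionRing.injective R Kf
    rw [map_mul, hr, ← IsScalarTower.algebraMap_apply, ← IsScalarTower.algebraMap_apply]
    exact div_mul_cancel₀ _ ht1
  obtain ⟨⟨c, s⟩, hcs⟩ := IsLocalization.surj P.primeCompl r
  have h3 : algebraMap C R (c * t) = algebraMap C R ((s : C) * y) := by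
    rw [map_mul, map_mul, ← h2, ← hcs]; ring
  obtain ⟨u, hu⟩ := (IsLocalization.eq_iff_exists P.primeCompl R).1 h3
  have hmem : (u : C) * s ∈ J := by
    rw [Submodule.mem_colon_singleton, smul_eq_mul, Ideal.mem_span_singleton]
    exact ⟨u * c, by linear_combination -hu⟩
  exact (P.primeCompl.mul_mem u.2 s.2) (hJP hmem)

/-- The `δ`-invariant is preserved by flat unramified local homomorphisms. -/
theorem deltaInv_eq [IsReduced A] (hN : CAlg.IsNagata A) (hdim : ringKrullDim A = 1) [IsNoetherianRing B]
    (hm : (maximalIdeal A).map (algebraMap A B) = maximalIdeal B)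
    [Algebra.IsSeparable (ResidueField A) (ResidueField B)] : Curv2.deltaInv B = Curv2.deltaInv A := by
  classical
  haveI := hN.1
  obtain ⟨hfin, hnorm, -⟩ := Groth.Agent.S7652.result A hN hdim
  haveI := hfin
  haveI hff : Module.FaithfullyFlat A B := Module.FaithfullyFlat.of_flat_of_isLocalHom
  set A' := integralClosure A (FractionRing A)
  set C := B ⊗[A] A'
  have hnzd : ∀ s ∈ A⁰, algebraMap A B s ∈ B⁰ := fun s hs => by
    rw [mem_nonZeroDivisors_iff_right]
    intro x hx
    have hreg : IsSMulRegular A s := fun x y h => (isRegular_iff_mem_nonZeroDivisors.2 hs).left h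
    have h1 : IsSMulRegular B (algebraMap A B s) := hreg.of_flat
    exact h1 (show algebraMap A B s • x = algebraMap A B s • (0 : B) by
      rw [smul_zero, smul_eq_mul, mul_comm]; exact hx)
  -- a common denominator
  obtain ⟨gens, hgens⟩ := hfin.fg_top
  obtain ⟨b, hb⟩ := IsLocalization.exist_integer_multiples_of_finset A⁰
    (gens.image fun x : A' => (x : FractionRing A))
  have hsA : ∀ x : A', ∃ c : A, algebraMap A A' b * x = algebraMap A A' c := by
    intro x
    have hx : x ∈ Submodule.span A (gens : Set A') := hgens ▸ Submodule.mem_top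
    induction hx using Submodule.span_induction with
    | mem y hy =>
      obtain ⟨c, hc⟩ := hb y (Finset.mem_image_of_mem _ hy)
      refine ⟨c, Subtype.ext ?_⟩
      rw [Subalgebra.coe_algebraMap]
      refine Eq.trans ?_ hc.symm
      rw [Algebra.smul_def]
      rfl
    | zero => exact ⟨0, by simp⟩
    | add y z _ _ hy hz =>
      obtain ⟨c, hc⟩ := hy; obtain ⟨d, hd⟩ := hz
      exact ⟨c + d, by rw [mul_add, hc, hd, map_add]⟩
    | smul r y _ hy =>
      obtain ⟨c, hc⟩ := hy
      exact ⟨r * c, by rw [Algebra.smul_def, mul_left_comm, hc, map_mul]⟩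
  have hsC : ∀ x : C, ∃ c : B, algebraMap A B b • x = algebraMap B C c := by
    intro x
    induction x using TensorProduct.induction_on with
    | zero => exact ⟨0, by simp⟩
    | tmul c a =>
      obtain ⟨d, hd⟩ := hsA a
      refine ⟨c * algebraMap A B d, ?_⟩
      rw [algebraMap_smul, ← TensorProduct.tmul_smul, Algebra.smul_def, hd, Algebra.TensorProduct.algebraMap_apply,
        Algebra.algebraMap_eq_smul_one d, TensorProduct.tmul_smul, mul_comm c, ← Algebra.smul_def]
      rfl
    | add x y hx hy =>
      obtain ⟨c, hc⟩ := hx; obtain ⟨d, hd⟩ := hy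
      exact ⟨c + d, by rw [smul_add, hc, hd, map_add]⟩
  -- the map to fractions
  let jB : FractionRing A →ₐ[A] FractionRing B :=
    IsLocalization.liftAlgHom (M := A⁰) (f := Algebra.ofId A (FractionRing B)) fun s => by
      rw [Algebra.ofId_apply, IsScalarTower.algebraMap_apply A B (FractionRing B)]
      exact IsLocalization.map_units _ (⟨_, hnzd s s.2⟩ : B⁰)
  let ψ : C →ₐ[B] FractionRing B :=
    Algebra.TensorProduct.lift (Algebra.ofId B (FractionRing B)) (jB.comp A'.val) (fun _ _ => Commute.all _ _)
  have hQinj : Function.Injective (algebraMap B (FractionRing B)) := IsFractionRing.injective _ _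
  have hregb : IsSMulRegular A' (b : A) := fun x y h => by
    refine Subtype.ext ?_
    have h1 := congrArg Subtype.val h
    simp only [Subalgebra.coe_smul, Algebra.smul_def] at h1
    exact (IsLocalization.map_units (FractionRing A) b).mul_left_cancel h1
  have hψ : Function.Injective ψ := by
    refine (injective_iff_map_eq_zero ψ).2 fun x hx => ?_
    obtain ⟨c, hc⟩ := hsC x
    have h1 := congrArg ψ hc
    rw [map_smul, hx, smul_zero, AlgHom.commutes] at h1
    have hc0 : c = 0 := hQinj (h1.symm.trans (map_zero _).symm)
    rw [hc0, map_zero, algebraMap_smul] at hc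
    have hinj : Function.Injective ((LinearMap.lsmul A A' (b : A)).lTensor B) :=
      Module.Flat.lTensor_preserves_injective_linearMap _ hregb
    refine hinj ?_
    rw [map_zero, ← hc]
    clear hc h1 hx
    induction x using TensorProduct.induction_on with
    | zero => simp
    | tmul c a => simp [TensorProduct.tmul_smul]
    | add x y hx hy => rw [map_add, hx, hy, smul_add]
  have hCnorm : ∀ (P : Ideal C) [P.IsMaximal],
      IsDomain (Localization.AtPrime P) ∧ IsIntegrallyClosed (Localization.AtPrime P) :=
    fun P _ => normal_at (A := A) (B := B) (A' := A') hdim.le hnorm hm P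
  have hrange : ψ.range = integralClosure B (FractionRing B) := by
    refine le_antisymm ?_ fun q hq => ?_
    · rintro _ ⟨x, rfl⟩
      exact (Algebra.IsIntegral.isIntegral x).map ψ
    · obtain ⟨⟨y, t⟩, hyt⟩ := IsLocalization.surj B⁰ q
      obtain ⟨p, hp, hpq⟩ := hq
      have ht : IsLeftRegular (algebraMap B C t) := fun x z h => hψ (by
        have h1 : ψ (algebraMap B C t * x) = ψ (algebraMap B C t * z) := congrArg ψ h
        rw [map_mul, map_mul, AlgHom.commutes] at h1
        exact (IsLocalization.map_units (FractionRing B) t).mul_left_cancel h1)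
      obtain ⟨c, hc⟩ : algebraMap B C t ∣ algebraMap B C y := by
        refine dvd_of_integral hCnorm ht (hp.map (algebraMap B C)) fun R _ _ r hr hu => ?_
        letI : Algebra B R := ((algebraMap C R).comp (algebraMap B C)).toAlgebra
        rw [Polynomial.aeval_def, Polynomial.eval₂_map,
          show (algebraMap C R).comp (algebraMap B C) = algebraMap B R from rfl, ← Polynomial.aeval_def]
        have htu : IsUnit (algebraMap B R t) := hu
        -- homogenise
        have h1 : (algebraMap B (FractionRing B) t) ^ p.natDegree * Polynomial.aeval q p = 0 := by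
          rw [show Polynomial.aeval q p = 0 from hpq, mul_zero]
        set N := p.natDegree
        let Hm : B := ∑ i ∈ Finset.range (N + 1), p.coeff i * y ^ i * (t : B) ^ (N - i)
        have key : ∀ (S : Type u) [CommRing S] [Algebra B S] (z : S), z * algebraMap B S t = algebraMap B S y →
            (algebraMap B S t) ^ N * Polynomial.aeval z p = algebraMap B S Hm := by
          intro S _ _ z hz
          rw [Polynomial.aeval_eq_sum_range, Finset.mul_sum, map_sum]
          refine Finset.sum_congr rfl fun i hi => ?_
          rw [map_mul, map_mul, map_pow, map_pow, ← hz, mul_pow, Algebra.smul_def]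
          have hiN : i + (N - i) = N := Nat.add_sub_cancel' (Nat.lt_succ_iff.1 (Finset.mem_range.1 hi))
          conv_lhs => rw [← hiN, pow_add]
          ring
        have hHm : Hm = 0 := hQinj (by rw [← key _ q hyt, h1, map_zero])
        have h2 := key R r hr
        rw [hHm, map_zero] at h2
        exact (htu.pow N).mul_right_eq_zero.1 h2
      refine ⟨c, ?_⟩
      have h1 := congrArg ψ hc
      rw [map_mul, AlgHom.commutes, AlgHom.commutes, ← hyt, mul_comm] at h1
      exact ((IsLocalization.map_units (FractionRing B) t).mul_left_cancel h1).symm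
  let e : C ≃ₐ[B] integralClosure B (FractionRing B) :=
    (AlgEquiv.ofInjective ψ hψ).trans (Subalgebra.equivOfEq _ _ hrange)
  -- the cokernel
  let q := (LinearMap.range (Algebra.linearMap A A')).mkQ
  have hex : Function.Exact (Algebra.linearMap A A') q := LinearMap.exact_map_mkQ_range _
  let qB := q.baseChange B
  have hexB : Function.Exact ((Algebra.linearMap A A').baseChange B) qB :=
    Module.Flat.lTensor_exact B hex
  have hsB : Function.Surjective qB := LinearMap.lTensor_surjective B (Submodule.mkQ_surjective _)
  have h1 : LinearMap.range ((Algebra.linearMap A A').baseChange B) = LinearMap.range (Algebra.linearMap B C) := by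
    refine le_antisymm ?_ ?_
    · rintro _ ⟨z, rfl⟩
      induction z using TensorProduct.induction_on with
      | zero => rw [map_zero]; exact Submodule.zero_mem _
      | tmul c a =>
        refine ⟨c * algebraMap A B a, ?_⟩
        rw [LinearMap.baseChange_tmul, Algebra.linearMap_apply, Algebra.linearMap_apply,
          Algebra.TensorProduct.algebraMap_apply, Algebra.algebraMap_eq_smul_one (A := A') a, TensorProduct.tmul_smul,
          mul_comm c, ← Algebra.smul_def]
        rfl
      | add x y hx hy => rw [map_add]; exact add_mem hx hy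
    · rintro _ ⟨c, rfl⟩
      refine ⟨c ⊗ₜ 1, ?_⟩
      rw [LinearMap.baseChange_tmul, Algebra.linearMap_apply, map_one, Algebra.linearMap_apply,
        Algebra.TensorProduct.algebraMap_apply]
      rfl
  have h2 : (LinearMap.range (Algebra.linearMap B C)).map (e.toLinearEquiv : C →ₗ[B] _) =
      LinearMap.range (Algebra.linearMap B (integralClosure B (FractionRing B))) := by
    rw [← LinearMap.range_comp]
    congr 1
    exact LinearMap.ext fun c => e.commutes c
  have E1 := Submodule.Quotient.equiv _ _ e.toLinearEquiv h2
  have E2 : (C ⧸ LinearMap.range (Algebra.linearMap B C)) ≃ₗ[B]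
      B ⊗[A] (A' ⧸ LinearMap.range (Algebra.linearMap A A')) :=
    (Submodule.quotEquivOfEq _ _ (h1.symm.trans hexB.linearMap_ker_eq.symm)).trans
      (LinearMap.quotKerEquivOfSurjective qB hsB)
  rw [Curv2.deltaInv, ← E1.length_eq, E2.length_eq, IsLocalRing.length_baseChange, hm]
  haveI : IsSimpleModule B (B ⧸ maximalIdeal B) :=
    isSimpleModule_iff_isCoatom.2 (IsLocalRing.maximalIdeal.isMaximal B).out
  rw [Module.length_eq_one B (B ⧸ maximalIdeal B), mul_one]
  rfl

end main

end DeltaBCLib

end
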